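/-
Coordinate lists: automorphisms of the lattice evaluated on lists, and a test for congruence modulo
twice the lattice.
-/
import Cfsg.Agent.Leech.ModTwoStab
import Cfsg.Agent.Golay.Cert

set_option autoImplicit false
set_option linter.constructorNameAsVariable false

namespace CfsgLib.LeechFix

open Cfsg CfsgLib.Golay CfsgLib.Leech

attribute [local irreducible] shortVecs halfTable quarterTable codeFinset

/-- A list read as a vector. -/
def ofL (l : List ℤ) : GolayPt → ℤ := fun p => l.getD (idx p) 0

/-- A vector as a list. -/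
def toL (x : GolayPt → ℤ) : List ℤ := (List.range 24).map fun i => x (pt i)

theorem toL_getD (x : GolayPt → ℤ) {i : ℕ} (hi : i < 24) : (toL x).getD i 0 = x (pt i) := by
  simp [toL, hi]

theorem ofL_toL (x : GolayPt → ℤ) : ofL (toL x) = x := funext fun p => by
  rw [ofL, toL_getD x (idx_lt p), pt_idx]

theorem getD_map_range {α : Type*} (f : ℕ → α) {n i : ℕ} (h : i < n) (d : α) :
    ((List.range n).map f).getD i d = f i := by
  simp [h]

theorem ofL_map_range (f : ℕ → ℤ) (p : GolayPt) : ofL ((List.range 24).map f) p = f (idx p) := by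
  simp [ofL, idx_lt p]

/-- A signed coordinate permutation on lists. -/
def monoL (P : List ℕ) (c : ℕ) (l : List ℤ) : List ℤ :=
  (List.range 24).map fun i =>
    if (word c).testBit i then -(l.getD ((invL P).getD i 0) 0) else l.getD ((invL P).getD i 0) 0

theorem ofL_monoL (σ : Equiv.Perm GolayPt) (c : ℕ) (l : List ℤ) :
    ofL (monoL (toList σ) c l) = flipSign (vec (word c)) (permL (toList σ) (ofL l)) :=
  funext fun p => by
    rw [monoL, ofL_map_range]
    simp only [flipSign, vec, permL, ← toList_inv, toList_getD_idx, ofL, pt_idx]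
    cases (word c).testBit (idx p) <;> simp

/-- The reflection in the tetrads on lists. -/
def reflL (l : List ℤ) : List ℤ :=
  let s : List ℤ := (List.range 6).map fun a =>
    (l.getD (sextetList.getD (4 * a) 0) 0 + l.getD (sextetList.getD (4 * a + 1) 0) 0 +
      l.getD (sextetList.getD (4 * a + 2) 0) 0 + l.getD (sextetList.getD (4 * a + 3) 0) 0) / 2
  (List.range 24).map fun i =>
    if tetradList.getD i 0 = 0 then s.getD 0 0 - l.getD i 0
    else l.getD i 0 - s.getD (tetradList.getD i 0) 0

theorem tet_small : ∀ a : Fin 6, ∀ b : Fin 4, sextetList.getD (4 * a.val + b.val) 0 < 24 := by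
  decide +kernel

theorem tetrad_lt : ∀ i < 24, tetradList.getD i 0 < 6 := by decide +kernel

theorem ofL_reflL (l : List ℤ) : ofL (reflL l) = xi (ofL l) := funext fun p => by
  simp only [reflL, ofL_map_range]
  have hlt := tetrad_lt _ (idx_lt p)
  have ha : (tetOf p).val = tetradList.getD (idx p) 0 := by
    simp only [tetOf, Fin.ofNat, Nat.mod_eq_of_lt hlt]
  have hs : ∀ a : Fin 6, (l.getD (sextetList.getD (4 * a.val) 0) 0 +
      l.getD (sextetList.getD (4 * a.val + 1) 0) 0 + l.getD (sextetList.getD (4 * a.val + 2) 0) 0 +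
      l.getD (sextetList.getD (4 * a.val + 3) 0) 0) = tetSum (ofL l) a := fun a => by
    simp only [tetSum, Fin.sum_univ_four, ofL, tetPt, idx_pt _ (tet_small a _)]
    rfl
  by_cases h0 : tetradList.getD (idx p) 0 = 0
  · rw [if_pos h0]
    have h1 : tetOf p = 0 := Fin.ext (ha.trans h0)
    simp only [xi, h1, tetSign, if_true]
    rw [getD_map_range _ (by norm_num : 0 < 6), ← hs 0]
    simp only [ofL, Fin.val_zero]
    ring
  · rw [if_neg h0]
    have h1 : tetOf p ≠ 0 := fun e => h0 (by rw [← ha, e]; rfl)
    simp only [xi, tetSign, if_neg h1, one_mul]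
    rw [getD_map_range _ hlt, ← hs (tetOf p), ha]
    rfl

/-- A letter: a signed permutation or the reflection. -/
inductive Op
  | mono (P : List ℕ) (c : ℕ)
  | refl

/-- The action of a letter. -/
def Op.app : Op → List ℤ → List ℤ
  | .mono P c, l => monoL P c l
  | .refl, l => reflL l

/-- The permutation of a letter preserves the code. -/
def Op.ok : Op → Bool
  | .mono P _ => Cert.genOK P
  | .refl => true

/-- The action of a word of letters, the first acting first. -/
def appW : List Op → List ℤ → List ℤ
  | [], l => l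
  | o :: w, l => appW w (o.app l)

/-- The vectors an automorphism realising the word. -/
def Real (w : List Op) (g : Co0) : Prop :=
  ∀ (v : leechLattice) (l : List ℤ), ofL l = (v : GolayPt → ℤ) →
    ofL (appW w l) = ((g • v : leechLattice) : GolayPt → ℤ)

theorem real_mono {P : List ℕ} {σ : M24} (hP : toList (σ : Equiv.Perm GolayPt) = P) (c : ℕ) :
    Real [.mono P c] (signAut ⟨vec (word c), vec_word_mem c⟩ * permHom σ) := fun v l hl => by
  subst hP
  rw [appW, appW, Op.app, ofL_monoL, hl, mul_smul, signAut_apply, permHom_eq_permL σ rfl]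

theorem real_refl : Real [.refl] xiAut := fun v l hl => by
  rw [appW, appW, Op.app, ofL_reflL, hl, xiAut_apply]

theorem Real.nil : Real [] 1 := fun v l hl => by rw [appW, one_smul, hl]

theorem appW_append : ∀ (a b : List Op) (l : List ℤ), appW (a ++ b) l = appW b (appW a l)
  | [], _, _ => rfl
  | o :: a, b, l => by simp [appW, appW_append a b]

theorem Real.append {a b : List Op} {g h : Co0} (ha : Real a g) (hb : Real b h) :
    Real (a ++ b) (h * g) := fun v l hl => by
  rw [appW_append, mul_smul]
  exact hb _ _ (ha v l hl)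

theorem exists_real_op : ∀ {o : Op}, o.ok = true → ∃ g, Real [o] g
  | .mono _ c, h => by obtain ⟨σ, hσ⟩ := Cert.genOK_spec h; exact ⟨_, real_mono hσ c⟩
  | .refl, _ => ⟨_, real_refl⟩

theorem exists_real : ∀ {w : List Op}, w.all Op.ok = true → ∃ g, Real w g
  | [], _ => ⟨1, Real.nil⟩
  | o :: w, h => by
    rw [List.all_cons, Bool.and_eq_true] at h
    obtain ⟨g, hg⟩ := exists_real_op h.1
    obtain ⟨g', hg'⟩ := exists_real h.2
    exact ⟨g' * g, hg.append hg'⟩

theorem Real.unique {w : List Op} {g h : Co0} (hg : Real w g) (hh : Real w h) : g = h :=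
  ext_co0 fun v => Subtype.ext ((hg v _ (ofL_toL _)).symm.trans (hh v _ (ofL_toL _)))

/-! ### Membership and congruence -/

/-- The mask of the bits of weight two. -/
def hiM : List ℤ → ℕ
  | [] => 0
  | x :: l => (if x / 2 % 2 = 1 then 1 else 0) + 2 * hiM l

/-- A test for lying in the lattice. -/
def memB (l : List ℤ) : Bool :=
  decide (l.length = 24) && l.all (fun x => (x - l.getD 23 0) % 2 == 0) &&
    ((l.foldr (· + ·) 0 - 4 * l.getD 23 0) % 8 == 0) && (word (hiM l % 4096) == hiM l)

theorem testBit_hiM : ∀ (l : List ℤ) (i : ℕ),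
    (hiM l).testBit i = decide (l.getD i 0 / 2 % 2 = 1)
  | [], i => by simp [hiM]
  | x :: l, 0 => by
    simp only [hiM, Nat.testBit_zero, List.getD_cons_zero]
    split <;> rename_i h <;> simp [h, Nat.add_mod]
  | x :: l, i + 1 => by
    rw [List.getD_cons_succ, ← testBit_hiM l i, hiM, Nat.testBit_succ]
    congr 1
    split <;> omega

theorem sum_toL (x : GolayPt → ℤ) : (toL x).foldr (· + ·) 0 = ∑ p, x p := by
  rw [← List.sum_eq_foldr, toL,
    show ((List.range 24).map fun i => x (pt i)).sum = ∑ i ∈ Finset.range 24, x (pt i) from rfl]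
  refine Finset.sum_nbij' pt idx (fun i _ => Finset.mem_univ _)
    (fun p _ => Finset.mem_range.2 (idx_lt p)) (fun i hi => idx_pt i (Finset.mem_range.1 hi))
    (fun p _ => pt_idx p) (fun i _ => rfl)

theorem ofL_eq_toL {l : List ℤ} (h : l.length = 24) : toL (ofL l) = l := by
  refine List.ext_getElem (by simp [toL, h]) fun i h1 h2 => ?_
  have hi : i < 24 := by simpa [toL] using h1
  simp [toL, ofL, idx_pt i hi, h2]

theorem mem_of_memB {l : List ℤ} (h : memB l = true) : ofL l ∈ leechLattice := by
  simp only [memB, Bool.and_eq_true, decide_eq_true_eq, List.all_eq_true, beq_iff_eq] at h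
  obtain ⟨⟨⟨hlen, hpar⟩, hsum⟩, hc⟩ := h
  have hn : ofL l none = l.getD 23 0 := rfl
  rw [mem_leech_iff]
  refine ⟨fun i => ?_, ?_, ?_⟩
  · have hi : idx i < l.length := hlen.symm ▸ idx_lt i
    have := hpar _ (List.getElem_mem hi)
    rw [hn]
    refine Int.dvd_of_emod_eq_zero ?_
    rw [ofL, List.getD_eq_getElem _ _ hi]
    exact this
  · rw [← sum_toL, ofL_eq_toL hlen, hn]
    exact Int.dvd_of_emod_eq_zero hsum
  · have e : hi (ofL l) = vec (hiM l) := funext fun p => by
      rcases eq_zero_or_one (hi (ofL l) p) with e | e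
      · rw [e, vec, testBit_hiM, if_neg]
        simp only [decide_eq_true_eq]
        intro h'
        have := (hi_val (ofL l) p).trans h'
        rw [e] at this
        simp at this
      · rw [e, vec, testBit_hiM, if_pos]
        simp only [decide_eq_true_eq]
        have := hi_val (ofL l) p
        rw [e, ZMod.val_one] at this
        simpa [ofL] using this.symm
    rw [e, ← hc]
    exact vec_word_mem _

/-- A test for congruence modulo twice the lattice. -/
def congB (a b : List ℤ) : Bool :=
  decide (a.length = 24) && decide (b.length = 24) &&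
    (List.zipWith (fun x y => x - y) a b).all (fun x => x % 2 == 0) &&
    memB (List.zipWith (fun x y => (x - y) / 2) a b)

theorem cls_eq_of_congB {a b : List ℤ} (h : congB a b = true) : cls (ofL a) = cls (ofL b) := by
  simp only [congB, Bool.and_eq_true, decide_eq_true_eq, List.all_eq_true, beq_iff_eq] at h
  obtain ⟨⟨⟨ha, hb⟩, hev⟩, hm⟩ := h
  refine (cls_eq_iff _ _).2 ⟨_, mem_of_memB hm, funext fun p => ?_⟩
  have h1 : idx p < a.length := ha.symm ▸ idx_lt p
  have h2 : idx p < b.length := hb.symm ▸ idx_lt p
  have h3 : idx p < (List.zipWith (fun x y => x - y) a b).length := by simp [h1, h2]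
  have := hev _ (List.getElem_mem h3)
  simp only [List.getElem_zipWith] at this
  simp [ofL, h1, h2]
  omega

/-- The squared length of a list. -/
def normL (l : List ℤ) : ℤ := l.foldr (fun x t => x * x + t) 0

/-- The inner product of lists. -/
def dotL (a b : List ℤ) : ℤ := (List.zipWith (· * ·) a b).foldr (· + ·) 0

theorem dot_ofL {a b : List ℤ} (ha : a.length = 24) (hb : b.length = 24) :
    dotInt (ofL a) (ofL b) = dotL a b := by
  have e : List.zipWith (· * ·) a b = toL fun p => ofL a p * ofL b p := by
    refine List.ext_getElem (by simp [toL, ha, hb]) fun i h1 h2 => ?_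
    have hi : i < 24 := by simpa [toL] using h2
    simp [toL, ofL, idx_pt i hi, ha, hb, hi]
  rw [dotL, e, sum_toL]; rfl

theorem norm_ofL {a : List ℤ} (ha : a.length = 24) : sqNorm (ofL a) = normL a := by
  have e : ∀ l : List ℤ, dotL l l = normL l := fun l => by
    induction l with
    | nil => rfl
    | cons x l ih => simp only [dotL, normL, List.zipWith_cons_cons, List.foldr_cons] at ih ⊢; rw [ih]
  rw [← e, ← dot_ofL ha ha]
  exact Finset.sum_congr rfl fun p _ => sq _

end CfsgLib.LeechFix
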