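/-
The classes fixed by an automorphism of odd order, given by a basis with certificates.
-/
import Cfsg.Agent.LeechFix.Ops

set_option autoImplicit false
set_option linter.constructorNameAsVariable false

namespace CfsgLib.LeechFix

open Cfsg CfsgLib.Golay CfsgLib.Leech

attribute [local irreducible] shortVecs halfTable quarterTable codeFinset

/-- The zero list. -/
def zeroL : List ℤ := List.replicate 24 0

/-- The sum of two lists. -/
def addL (a b : List ℤ) : List ℤ := List.zipWith (· + ·) a b

/-- The sum of the listed vectors selected by a mask. -/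
def combV : List (List ℤ) → ℕ → List ℤ
  | [], _ => zeroL
  | b :: bs, m => if m % 2 = 1 then addL b (combV bs (m / 2)) else combV bs (m / 2)

/-- All listed vectors lie in the lattice. -/
def basOK (bas : List (List ℤ)) : Bool := bas.all memB

theorem length_of_memB {l : List ℤ} (h : memB l = true) : l.length = 24 := by
  simp only [memB, Bool.and_eq_true, decide_eq_true_eq] at h
  exact h.1.1.1

theorem ofL_zeroL : ofL zeroL = 0 := funext fun p => by
  rw [ofL, List.getD_eq_getElem _ _ (by simp [zeroL, idx_lt p])]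
  simp only [zeroL, List.getElem_replicate, Pi.zero_apply]

theorem ofL_addL {a b : List ℤ} (ha : a.length = 24) (hb : b.length = 24) :
    ofL (addL a b) = ofL a + ofL b := funext fun p => by
  simp [ofL, addL, ha, hb, idx_lt p]

theorem length_addL {a b : List ℤ} (ha : a.length = 24) (hb : b.length = 24) :
    (addL a b).length = 24 := by simp [addL, ha, hb]

theorem combV_spec : ∀ {bas : List (List ℤ)}, basOK bas = true → ∀ m,
    (combV bas m).length = 24 ∧ ofL (combV bas m) ∈ leechLattice
  | [], _, _ => ⟨by simp [combV, zeroL], by rw [combV, ofL_zeroL]; exact leechLattice.zero_mem⟩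
  | b :: bs, h, m => by
    rw [basOK, List.all_cons, Bool.and_eq_true] at h
    obtain ⟨hl, hm⟩ := combV_spec (bas := bs) h.2 (m / 2)
    rw [combV]
    split
    · exact ⟨length_addL (length_of_memB h.1) hl, by
        rw [ofL_addL (length_of_memB h.1) hl]; exact leechLattice.add_mem (mem_of_memB h.1) hm⟩
    · exact ⟨hl, hm⟩

/-- The class of a selected sum. -/
def clsM (bas : List (List ℤ)) (m : ℕ) : (GolayPt → ℤ) ⧸ twoLeech := cls (ofL (combV bas m))

theorem cls_self_add {x : GolayPt → ℤ} (hx : x ∈ leechLattice) : cls x + cls x = 0 := by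
  nth_rw 2 [← cls_neg hx]
  rw [← cls_add, add_neg_cancel, cls_zero]

theorem clsM_cons {b : List ℤ} {bs : List (List ℤ)} (h : basOK (b :: bs) = true) (m : ℕ) :
    clsM (b :: bs) m = (if m % 2 = 1 then cls (ofL b) else 0) + clsM bs (m / 2) := by
  rw [basOK, List.all_cons, Bool.and_eq_true] at h
  rw [clsM, combV]
  split
  · rw [ofL_addL (length_of_memB h.1) (combV_spec h.2 _).1, cls_add]; rfl
  · rw [zero_add]; rfl

theorem clsM_nil (m : ℕ) : clsM [] m = 0 := by rw [clsM, combV, ofL_zeroL, cls_zero]

theorem clsM_xor : ∀ {bas : List (List ℤ)}, basOK bas = true → ∀ a b,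
    clsM bas (a ^^^ b) = clsM bas a + clsM bas b
  | [], _, _, _ => by simp [clsM_nil]
  | v :: bs, h, a, b => by
    have h' := h
    rw [basOK, List.all_cons, Bool.and_eq_true] at h'
    rw [clsM_cons h, clsM_cons h, clsM_cons h,
      show (a ^^^ b) / 2 = a / 2 ^^^ b / 2 from Nat.xor_div_two, clsM_xor h'.2]
    have hb : ((a ^^^ b) % 2 = 1) ↔ ¬ (a % 2 = 1 ↔ b % 2 = 1) := by
      rw [Nat.xor_mod_two_eq_one]
    have hv := cls_self_add (mem_of_memB h'.1)
    rw [if_congr hb rfl rfl]
    by_cases ha : a % 2 = 1 <;> by_cases hb' : b % 2 = 1 <;> simp [ha, hb'] <;>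
      first | abel1 | skip
    · rw [show cls (ofL v) + clsM bs (a / 2) + (cls (ofL v) + clsM bs (b / 2)) =
        (cls (ofL v) + cls (ofL v)) + (clsM bs (a / 2) + clsM bs (b / 2)) by abel, hv, zero_add]

theorem clsM_zero {bas : List (List ℤ)} (h : basOK bas = true) : clsM bas 0 = 0 := by
  have := clsM_xor h 0 0
  rw [Nat.xor_self] at this
  exact left_eq_add.1 this

/-- The selected sum as a lattice vector. -/
def vecM {bas : List (List ℤ)} (h : basOK bas = true) (m : ℕ) : leechLattice :=
  ⟨ofL (combV bas m), (combV_spec h m).2⟩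

theorem cls_vecM {bas : List (List ℤ)} (h : basOK bas = true) (m : ℕ) :
    cls (vecM h m : GolayPt → ℤ) = clsM bas m := rfl

/-! ### Images -/

/-- Certificates for the images of the listed vectors under a word. -/
def imgsOK (bas : List (List ℤ)) (w : List Op) : List (List ℤ) → List ℕ → Bool
  | [], Ms => Ms.isEmpty
  | _ :: _, [] => false
  | b :: L, m :: Ms => decide (m < 2 ^ bas.length) && congB (appW w b) (combV bas m) &&
      imgsOK bas w L Ms

theorem imgs_spec {bas : List (List ℤ)} (hbas : basOK bas = true) {w : List Op} {g : Co0}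
    (hg : Real w g) : ∀ {L : List (List ℤ)} {Ms : List ℕ} (hL : basOK L = true),
      imgsOK bas w L Ms = true → ∀ m,
      cls ((g • vecM hL m : leechLattice) : GolayPt → ℤ) = clsM bas (comb Ms m) ∧
        comb Ms m < 2 ^ bas.length
  | [], [], hL, _, m => by
    have e : vecM hL m = 0 := Subtype.ext (by simp [vecM, combV, ofL_zeroL])
    rw [e, smul_zero', comb, clsM_zero hbas]
    exact ⟨cls_zero, Nat.two_pow_pos _⟩
  | [], _ :: _, _, h, _ => by simp [imgsOK] at h
  | _ :: _, [], _, h, _ => by simp [imgsOK] at h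
  | b :: L, r :: Ms, hL, h, m => by
    simp only [imgsOK, Bool.and_eq_true, decide_eq_true_eq] at h
    have hL' := hL
    rw [basOK, List.all_cons, Bool.and_eq_true] at hL'
    obtain ⟨e, hlt⟩ := imgs_spec hbas hg (L := L) (Ms := Ms) hL'.2 h.2 (m / 2)
    have hb : cls ((g • (⟨ofL b, mem_of_memB hL'.1⟩ : leechLattice) : leechLattice) : GolayPt → ℤ) =
        clsM bas r := by
      rw [← hg ⟨ofL b, mem_of_memB hL'.1⟩ b rfl]
      exact cls_eq_of_congB h.1.2
    rw [comb]
    by_cases hm : m % 2 = 1
    · have ev : vecM hL m = (⟨ofL b, mem_of_memB hL'.1⟩ : leechLattice) + vecM hL'.2 (m / 2) :=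
        Subtype.ext (by
          simp only [vecM, combV, if_pos hm, AddSubgroup.coe_add]
          exact ofL_addL (length_of_memB hL'.1) (combV_spec hL'.2 _).1)
      rw [if_pos hm, clsM_xor hbas, ev, smul_add', AddSubgroup.coe_add, cls_add, hb, e]
      exact ⟨rfl, Nat.xor_lt_two_pow h.1.1 hlt⟩
    · have ev : vecM hL m = vecM hL'.2 (m / 2) :=
        Subtype.ext (by simp only [vecM, combV, if_neg hm])
      rw [if_neg hm, Nat.zero_xor, ev, e]
      exact ⟨rfl, hlt⟩

/-! ### Distinctness -/

/-- Short representatives of the nonzero selected sums. -/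
def repsOK (bas : List (List ℤ)) (reps : List (List ℤ)) : Bool :=
  (List.range (2 ^ bas.length)).all fun m => decide (m = 0) ||
    (memB (reps.getD m []) && (normL (reps.getD m []) == 32 || normL (reps.getD m []) == 48 ||
      normL (reps.getD m []) == 64) && congB (reps.getD m []) (combV bas m))

theorem rep_spec {bas reps : List (List ℤ)} (h : repsOK bas reps = true) {m : ℕ}
    (hm : m < 2 ^ bas.length) (h0 : m ≠ 0) :
    ofL (reps.getD m []) ∈ leechLattice ∧ cls (ofL (reps.getD m [])) = clsM bas m ∧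
      sqNorm (ofL (reps.getD m [])) = normL (reps.getD m []) ∧
      (sqNorm (ofL (reps.getD m [])) = 32 ∨ sqNorm (ofL (reps.getD m [])) = 48 ∨
        sqNorm (ofL (reps.getD m [])) = 64) := by
  have := List.all_eq_true.1 h m (List.mem_range.2 hm)
  simp only [Bool.or_eq_true, Bool.and_eq_true, decide_eq_true_eq, beq_iff_eq, h0, false_or] at this
  obtain ⟨⟨hmem, hn⟩, hc⟩ := this
  have e := norm_ofL (length_of_memB hmem)
  exact ⟨mem_of_memB hmem, cls_eq_of_congB hc, e, by rw [e]; tauto⟩

theorem eq_zero_of_clsM {bas reps : List (List ℤ)} (h : repsOK bas reps = true) {m : ℕ}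
    (hm : m < 2 ^ bas.length) (e : clsM bas m = 0) : m = 0 := by
  by_contra h0
  obtain ⟨-, hc, -, hn⟩ := rep_spec h hm h0
  exact cls_ne_zero hn (by rw [hc, e, cls_zero])

theorem clsM_inj {bas reps : List (List ℤ)} (hb : basOK bas = true) (h : repsOK bas reps = true)
    {a b : ℕ} (ha : a < 2 ^ bas.length) (hb' : b < 2 ^ bas.length)
    (e : clsM bas a = clsM bas b) : a = b := by
  have h1 : clsM bas (a ^^^ b) = 0 := by
    rw [clsM_xor hb, e]; exact cls_self_add (combV_spec hb b).2
  exact Nat.xor_eq_zero_iff.1 (eq_zero_of_clsM h (Nat.xor_lt_two_pow ha hb') h1)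

theorem norm_rep_of_frame {bas reps : List (List ℤ)} (hb : basOK bas = true)
    (h : repsOK bas reps = true) {m : ℕ} (hm : m < 2 ^ bas.length) {v : leechLattice}
    (hn : sqNorm (v : GolayPt → ℤ) = 64) (e : cls (v : GolayPt → ℤ) = clsM bas m) :
    m ≠ 0 ∧ normL (reps.getD m []) = 64 := by
  have h0 : m ≠ 0 := by
    rintro rfl
    exact cls_ne_zero (Or.inr (Or.inr hn)) (by rw [e, clsM_zero hb, cls_zero])
  refine ⟨h0, ?_⟩
  obtain ⟨hmem, hc, hen, hr⟩ := rep_spec h hm h0
  rw [← hen]
  by_cases he : ofL (reps.getD m []) = (v : GolayPt → ℤ)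
  · rw [he, hn]
  rcases short_congr v.2 he (by omega) (by omega) ((cls_eq_iff _ _).1 (hc.trans e.symm)) with
    h' | ⟨h', -, -⟩
  · rw [h', ← hn]
    exact Finset.sum_congr rfl fun i _ => by simp
  · exact h'

/-! ### The fixed classes -/

/-- The sum of `k` iterates of a word. -/
def orbL (w : List Op) : ℕ → List ℤ → List ℤ
  | 0, _ => zeroL
  | k + 1, l => addL l (orbL w k (appW w l))

/-- The sum of `k` iterates of an automorphism. -/
def orbV (g : Co0) : ℕ → leechLattice → leechLattice
  | 0, _ => 0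
  | k + 1, v => v + orbV g k (g • v)

theorem length_appW : ∀ (w : List Op) {l : List ℤ}, l.length = 24 → (appW w l).length = 24
  | [], _, h => h
  | o :: w, l, _ => length_appW w (by cases o <;> simp [Op.app, monoL, reflL])

theorem orbL_spec {w : List Op} {g : Co0} (hg : Real w g) : ∀ (k : ℕ) (v : leechLattice)
    {l : List ℤ}, l.length = 24 → ofL l = (v : GolayPt → ℤ) →
      (orbL w k l).length = 24 ∧ ofL (orbL w k l) = (orbV g k v : GolayPt → ℤ)
  | 0, v, l, _, _ => ⟨by simp [orbL, zeroL], by rw [orbL, ofL_zeroL]; rfl⟩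
  | k + 1, v, l, hl, e => by
    obtain ⟨h1, h2⟩ := orbL_spec hg k (g • v) (length_appW w hl) (hg v l e)
    exact ⟨length_addL hl h1, by rw [orbL, ofL_addL hl h1, e, h2]; rfl⟩

theorem orbV_add (g : Co0) : ∀ (k : ℕ) (v u : leechLattice),
    orbV g k (v + u) = orbV g k v + orbV g k u
  | 0, _, _ => (add_zero 0).symm
  | k + 1, v, u => by simp only [orbV, smul_add', orbV_add g k]; abel

theorem orbV_fixed (g : Co0) : ∀ (k : ℕ) {v : leechLattice},
    cls ((g • v : leechLattice) : GolayPt → ℤ) = cls (v : GolayPt → ℤ) →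
    cls (orbV g k v : GolayPt → ℤ) = k • cls (v : GolayPt → ℤ)
  | 0, v, _ => by rw [zero_smul]; exact cls_zero
  | k + 1, v, h => by
    rw [orbV, AddSubgroup.coe_add, cls_add, orbV_fixed g k (cls_smul g h), h, succ_nsmul']

theorem smul_cls_odd {x : GolayPt → ℤ} (hx : x ∈ leechLattice) {p : ℕ} (hp : p % 2 = 1) :
    p • cls x = cls x := by
  rw [show p = 2 * (p / 2) + 1 by omega, succ_nsmul, mul_nsmul, two_nsmul, cls_self_add hx,
    smul_zero, zero_add]

/-- The lists of the generators of the lattice. -/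
def genLists : List (List ℤ) :=
  (Spor.vecV :: rows.map twoVec ++ (List.range 24).map fun i => fourPair (pt i)).map toL

/-- Certificates that the orbit sums of the generators are selected sums. -/
def spanOK (bas : List (List ℤ)) (w : List Op) (p : ℕ) (ns : List ℕ) : Bool :=
  (List.range genLists.length).all fun i => decide (ns.getD i 0 < 2 ^ bas.length) &&
    congB (orbL w p (genLists.getD i [])) (combV bas (ns.getD i 0))

/-- A fixed class is a selected sum. -/
theorem exists_mask {bas : List (List ℤ)} (hb : basOK bas = true) {w : List Op} {g : Co0}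
    (hg : Real w g) {p : ℕ} (hp : p % 2 = 1) {ns : List ℕ} (hs : spanOK bas w p ns = true)
    {v : leechLattice} (hv : cls ((g • v : leechLattice) : GolayPt → ℤ) = cls (v : GolayPt → ℤ)) :
    ∃ m < 2 ^ bas.length, cls (v : GolayPt → ℤ) = clsM bas m := by
  let S : AddSubgroup (GolayPt → ℤ) :=
    { carrier := {x | ∃ hx : x ∈ leechLattice, ∃ m < 2 ^ bas.length,
        cls (orbV g p ⟨x, hx⟩ : GolayPt → ℤ) = clsM bas m}
      zero_mem' := ⟨leechLattice.zero_mem, 0, Nat.two_pow_pos _, by
        have := orbV_add g p 0 0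
        rw [add_zero, left_eq_add] at this
        rw [show (⟨0, leechLattice.zero_mem⟩ : leechLattice) = 0 from rfl, this, clsM_zero hb]
        exact cls_zero⟩
      add_mem' := by
        rintro x y ⟨hx, a, ha, ea⟩ ⟨hy, b, hb', eb⟩
        refine ⟨leechLattice.add_mem hx hy, a ^^^ b, Nat.xor_lt_two_pow ha hb', ?_⟩
        rw [show (⟨x + y, leechLattice.add_mem hx hy⟩ : leechLattice) = ⟨x, hx⟩ + ⟨y, hy⟩ from rfl,
          orbV_add, AddSubgroup.coe_add, cls_add, ea, eb, clsM_xor hb]
      neg_mem' := by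
        rintro x ⟨hx, a, ha, ea⟩
        refine ⟨leechLattice.neg_mem hx, a, ha, ?_⟩
        have h2 := orbV_add g p ⟨x, hx⟩ (-⟨x, hx⟩)
        rw [add_neg_cancel] at h2
        have h0 := orbV_add g p 0 0
        rw [add_zero, left_eq_add] at h0
        rw [h0] at h2
        rw [show (⟨-x, leechLattice.neg_mem hx⟩ : leechLattice) = -⟨x, hx⟩ from rfl,
          eq_neg_of_add_eq_zero_right h2.symm, AddSubgroup.coe_neg, cls_neg (orbV g p ⟨x, hx⟩).2, ea] }
  have hgen : ∀ x, toL x ∈ genLists → x ∈ leechLattice → x ∈ S := by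
    intro x hxl hx
    obtain ⟨i, hi, e⟩ := List.getElem_of_mem hxl
    have := List.all_eq_true.1 hs i (List.mem_range.2 hi)
    simp only [Bool.and_eq_true, decide_eq_true_eq, List.getD_eq_getElem _ _ hi, e] at this
    refine ⟨hx, _, this.1, ?_⟩
    rw [← (orbL_spec hg p ⟨x, hx⟩ (by simp [toL]) (ofL_toL x)).2]
    exact cls_eq_of_congB this.2
  have hle : leechLattice ≤ S := by
    refine leech_le S (hgen _ ?_ vecV_mem) (fun r hr => hgen _ ?_ (twoVec_rows_mem r hr))
      (fun q => hgen _ ?_ (fourPair_mem q))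
    · exact List.mem_map_of_mem (by simp)
    · exact List.mem_map_of_mem (by simp only [List.mem_cons, List.mem_append, List.mem_map]
                                    exact Or.inl (Or.inr ⟨r, hr, rfl⟩))
    · refine List.mem_map_of_mem (List.mem_append_right _ (List.mem_map.2 ⟨idx q, ?_, by rw [pt_idx]⟩))
      exact List.mem_range.2 (idx_lt q)
  obtain ⟨_, m, hm, e⟩ := hle v.2
  exact ⟨m, hm, by rw [← smul_cls_odd v.2 hp, ← orbV_fixed g p hv]; exact e⟩

/-- The listed vectors have fixed classes. -/
def fixOK (bas : List (List ℤ)) (w : List Op) : Bool := bas.all fun b => congB (appW w b) b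

theorem fixed_clsM {w : List Op} {g : Co0} (hg : Real w g) :
    ∀ {L : List (List ℤ)} (hL : basOK L = true), fixOK L w = true →
      ∀ m, cls ((g • vecM hL m : leechLattice) : GolayPt → ℤ) = clsM L m
  | [], hL, _, m => by
    have e : vecM hL m = 0 := Subtype.ext (by simp [vecM, combV, ofL_zeroL])
    rw [e, smul_zero', clsM_nil]
    exact cls_zero
  | b :: L, hL, h, m => by
    rw [fixOK, List.all_cons, Bool.and_eq_true] at h
    have hL' := hL
    rw [basOK, List.all_cons, Bool.and_eq_true] at hL'
    have ih := fixed_clsM hg hL'.2 h.2 (m / 2)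
    have hb : cls ((g • (⟨ofL b, mem_of_memB hL'.1⟩ : leechLattice) : leechLattice) : GolayPt → ℤ) =
        cls (ofL b) := by
      rw [← hg ⟨ofL b, mem_of_memB hL'.1⟩ b rfl]
      exact cls_eq_of_congB h.1
    rw [clsM_cons hL]
    by_cases hm : m % 2 = 1
    · have ev : vecM hL m = (⟨ofL b, mem_of_memB hL'.1⟩ : leechLattice) + vecM hL'.2 (m / 2) :=
        Subtype.ext (by
          simp only [vecM, combV, if_pos hm, AddSubgroup.coe_add]
          exact ofL_addL (length_of_memB hL'.1) (combV_spec hL'.2 _).1)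
      rw [if_pos hm, ev, smul_add', AddSubgroup.coe_add, cls_add, hb, ih]
    · have ev : vecM hL m = vecM hL'.2 (m / 2) :=
        Subtype.ext (by simp only [vecM, combV, if_neg hm])
      rw [if_neg hm, ev, ih, zero_add]

end CfsgLib.LeechFix
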