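/-
The permutations induced on marked sets of fixed classes by the centraliser of an automorphism of
odd order, and a bound for that centraliser.
-/
import Cfsg.Agent.LeechFix.Span
import Cfsg.Agent.Leech.CentralizerP

set_option autoImplicit false
set_option linter.constructorNameAsVariable false

namespace CfsgLib.LeechFix

open Cfsg CfsgLib.Golay CfsgLib.Leech

attribute [local irreducible] shortVecs halfTable quarterTable codeFinset

/-- Automorphisms agreeing on the generators of the lattice are equal. -/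
theorem eq_of_genLists {a b : List Op} {g h : Co0} (hg : Real a g) (hh : Real b h)
    (e : genLists.all (fun l => appW a l == appW b l) = true) : g = h := by
  let S : AddSubgroup (GolayPt → ℤ) :=
    { carrier := {x | ∃ hx : x ∈ leechLattice, g • (⟨x, hx⟩ : leechLattice) = h • ⟨x, hx⟩}
      zero_mem' := ⟨leechLattice.zero_mem, by
        rw [show (⟨0, leechLattice.zero_mem⟩ : leechLattice) = 0 from rfl, smul_zero', smul_zero']⟩
      add_mem' := by
        rintro x y ⟨hx, ex⟩ ⟨hy, ey⟩
        refine ⟨leechLattice.add_mem hx hy, ?_⟩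
        rw [show (⟨x + y, leechLattice.add_mem hx hy⟩ : leechLattice) = ⟨x, hx⟩ + ⟨y, hy⟩ from rfl,
          smul_add', smul_add', ex, ey]
      neg_mem' := by
        rintro x ⟨hx, ex⟩
        refine ⟨leechLattice.neg_mem hx, ?_⟩
        rw [show (⟨-x, leechLattice.neg_mem hx⟩ : leechLattice) = -⟨x, hx⟩ from rfl,
          smul_neg', smul_neg', ex] }
  have hgen : ∀ x, toL x ∈ genLists → x ∈ leechLattice → x ∈ S := by
    intro x hxl hx
    have he := List.all_eq_true.1 e _ hxl
    rw [beq_iff_eq] at he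
    exact ⟨hx, Subtype.ext (by rw [← hg _ _ (ofL_toL x), ← hh _ _ (ofL_toL x), he])⟩
  have hle : leechLattice ≤ S := by
    refine leech_le S (hgen _ ?_ vecV_mem) (fun r hr => hgen _ ?_ (twoVec_rows_mem r hr))
      (fun q => hgen _ ?_ (fourPair_mem q))
    · exact List.mem_map_of_mem (by simp)
    · exact List.mem_map_of_mem (by simp only [List.mem_cons, List.mem_append, List.mem_map]
                                    exact Or.inl (Or.inr ⟨r, hr, rfl⟩))
    · refine List.mem_map_of_mem (List.mem_append_right _ (List.mem_map.2 ⟨idx q, ?_, by rw [pt_idx]⟩))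
      exact List.mem_range.2 (idx_lt q)
  exact ext_co0 fun v => (hle v.2).choose_spec

/-- The data of an automorphism of odd order with a basis of its fixed classes. -/
structure Sys where
  σ : M24
  L : List ℕ
  hL : toList (σ : Equiv.Perm GolayPt) = L
  bas : List (List ℤ)
  reps : List (List ℤ)
  ns : List ℕ
  p : ℕ
  hp : p % 2 = 1
  hb : basOK bas = true
  hr : repsOK bas reps = true
  hf : fixOK bas [.mono L 0] = true
  hs : spanOK bas [.mono L 0] p ns = true

namespace Sys

variable (S : Sys)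

/-- The automorphism. -/
def rho : Co0 := permHom S.σ

theorem real_rho : Real [.mono S.L 0] S.rho := by
  have h := real_mono S.hL 0
  have e : (⟨vec (word 0), vec_word_mem 0⟩ : golayCode) = 0 :=
    Subtype.ext (show vec (word 0) = 0 by rw [show word 0 = 0 from rfl, vec_zero])
  rwa [e, signAut_zero, one_mul] at h

/-- Number of masks. -/
def N : ℕ := 2 ^ S.bas.length

/-- The lattice vector of a mask. -/
def vec' (m : ℕ) : leechLattice := vecM S.hb m

/-- The class of a mask. -/
def cl (m : ℕ) : (GolayPt → ℤ) ⧸ twoLeech := clsM S.bas m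

theorem cls_vec' (m : ℕ) : cls (S.vec' m : GolayPt → ℤ) = S.cl m := rfl

theorem cl_inj {a b : ℕ} (ha : a < S.N) (hb : b < S.N) (e : S.cl a = S.cl b) : a = b :=
  clsM_inj S.hb S.hr ha hb e

theorem rho_fix (m : ℕ) : cls ((S.rho • S.vec' m : leechLattice) : GolayPt → ℤ) = S.cl m :=
  fixed_clsM S.real_rho S.hb S.hf m

theorem exists_mask {v : leechLattice}
    (hv : cls ((S.rho • v : leechLattice) : GolayPt → ℤ) = cls (v : GolayPt → ℤ)) :
    ∃ m < S.N, cls (v : GolayPt → ℤ) = S.cl m :=
  LeechFix.exists_mask S.hb S.real_rho S.hp S.hs hv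

/-- The centraliser of the automorphism. -/
def cent : Subgroup Co0 := Subgroup.centralizer ({S.rho} : Set Co0)

theorem mem_cent {g : Co0} : g ∈ S.cent ↔ g * S.rho = S.rho * g :=
  Subgroup.mem_centralizer_singleton_iff

theorem exists_image {g : Co0} (hg : g ∈ S.cent) {v : leechLattice}
    (hv : cls ((S.rho • v : leechLattice) : GolayPt → ℤ) = cls (v : GolayPt → ℤ)) :
    ∃ m < S.N, cls ((g • v : leechLattice) : GolayPt → ℤ) = S.cl m := by
  refine S.exists_mask ?_
  rw [← mul_smul, ← S.mem_cent.1 hg, mul_smul]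
  exact cls_smul g hv

theorem exists_image_mask {g : Co0} (hg : g ∈ S.cent) (m : ℕ) :
    ∃ m' < S.N, cls ((g • S.vec' m : leechLattice) : GolayPt → ℤ) = S.cl m' :=
  S.exists_image hg (S.rho_fix m)

section Ind

variable {α : Type*} (P : α → ℕ)

/-- An automorphism induces a permutation of the marked sets. -/
def Ind (g : Co0) (π : Equiv.Perm α) : Prop :=
  ∀ j, ∀ m < S.N, ∀ m' < S.N, cls ((g • S.vec' m : leechLattice) : GolayPt → ℤ) = S.cl m' →
    (P j).testBit m = (P (π j)).testBit m'

theorem ind_one : S.Ind P 1 1 := fun j m hm m' hm' e => by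
  rw [one_smul] at e
  rw [S.cl_inj hm hm' e]
  rfl

theorem ind_mul {g h : Co0} {π π' : Equiv.Perm α} (hh : h ∈ S.cent) (h1 : S.Ind P g π)
    (h2 : S.Ind P h π') : S.Ind P (g * h) (π * π') := fun j m hm m' hm' e => by
  obtain ⟨k, hk, ek⟩ := S.exists_image_mask hh m
  rw [h2 j m hm k hk ek]
  refine h1 (π' j) k hk m' hm' ?_
  rw [← e, mul_smul]
  exact cls_smul g ek.symm

theorem ind_inv {g : Co0} {π : Equiv.Perm α} (h1 : S.Ind P g π) : S.Ind P g⁻¹ π⁻¹ :=
  fun j m hm m' hm' e => by
  have e' : cls ((g • S.vec' m' : leechLattice) : GolayPt → ℤ) = S.cl m := by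
    rw [← S.cls_vec' m, ← smul_inv_smul g (S.vec' m)]
    exact cls_smul g e.symm
  rw [h1 (π⁻¹ j) m' hm' m hm e']
  simp

theorem ind_unique (hP : ∀ j, P j < 2 ^ S.N) (hinj : Function.Injective P) {g : Co0}
    (hg : g ∈ S.cent) {π π' : Equiv.Perm α} (h1 : S.Ind P g π) (h2 : S.Ind P g π') : π = π' := by
  refine Equiv.ext fun j => hinj (Nat.eq_of_testBit_eq fun m' => ?_)
  by_cases hm' : m' < S.N
  · obtain ⟨m, hm, em⟩ := S.exists_image_mask (inv_mem hg) m'
    have e' : cls ((g • S.vec' m : leechLattice) : GolayPt → ℤ) = S.cl m' := by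
      rw [← S.cls_vec' m', ← smul_inv_smul g (S.vec' m')]
      exact cls_smul g em.symm
    rw [← h1 j m hm m' hm' e', h2 j m hm m' hm' e']
  · rw [Nat.testBit_lt_two_pow, Nat.testBit_lt_two_pow] <;>
      exact lt_of_lt_of_le (hP _) (Nat.pow_le_pow_right (by norm_num) (not_lt.1 hm'))

/-- The elements of the centraliser inducing a permutation. -/
def dom : Subgroup Co0 where
  carrier := {g | g ∈ S.cent ∧ ∃ π, S.Ind P g π}
  one_mem' := ⟨one_mem _, 1, S.ind_one P⟩
  mul_mem' := fun ⟨ha, π, h1⟩ ⟨hb, π', h2⟩ => ⟨mul_mem ha hb, π * π', S.ind_mul P hb h1 h2⟩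
  inv_mem' := fun ⟨ha, π, h1⟩ => ⟨inv_mem ha, π⁻¹, S.ind_inv P h1⟩

theorem dom_le : S.dom P ≤ S.cent := fun _ h => h.1

/-- The induced permutation. -/
noncomputable def perm (hP : ∀ j, P j < 2 ^ S.N) (hinj : Function.Injective P) :
    S.dom P →* Equiv.Perm α where
  toFun g := g.2.2.choose
  map_one' := S.ind_unique P hP hinj (one_mem _) (1 : S.dom P).2.2.choose_spec (S.ind_one P)
  map_mul' a b := S.ind_unique P hP hinj (a * b).2.1 (a * b).2.2.choose_spec
    (S.ind_mul P b.2.1 a.2.2.choose_spec b.2.2.choose_spec)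

theorem perm_eq (hP : ∀ j, P j < 2 ^ S.N) (hinj : Function.Injective P) {g : S.dom P}
    {π : Equiv.Perm α} (h : S.Ind P (g : Co0) π) : S.perm P hP hinj g = π :=
  S.ind_unique P hP hinj g.2.1 g.2.2.choose_spec h

/-- Certificate for a generator. -/
def genB (js : List α) (w : List Op) (Ms : List ℕ) (π : α → α) : Bool :=
  w.all Op.ok && imgsOK S.bas w S.bas Ms &&
    genLists.all (fun l => appW (w ++ [.mono S.L 0]) l == appW ([.mono S.L 0] ++ w) l) &&
    js.all (fun j => (List.range (2 ^ S.bas.length)).all fun m =>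
      (P j).testBit m == (P (π j)).testBit (comb Ms m))

theorem genB_spec {js : List α} (hjs : ∀ j, j ∈ js) {w : List Op} {Ms : List ℕ}
    {π : Equiv.Perm α} (h : S.genB P js w Ms π = true) :
    ∃ g ∈ S.dom P, Real w g ∧ S.Ind P g π := by
  simp only [genB, Bool.and_eq_true, List.all_eq_true, beq_iff_eq, List.mem_range] at h
  obtain ⟨⟨⟨hw, him⟩, hc⟩, hP⟩ := h
  obtain ⟨g, hg⟩ := exists_real (w := w) (List.all_eq_true.2 hw)
  have hcent : g ∈ S.cent := S.mem_cent.2
    (eq_of_genLists (S.real_rho.append hg) (hg.append S.real_rho) (List.all_eq_true.2 fun l hl =>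
      beq_iff_eq.2 (hc l hl).symm))
  have hind : S.Ind P g π := fun j m hm m' hm' e => by
    obtain ⟨e1, hlt⟩ := imgs_spec S.hb hg S.hb him m
    rw [← S.cl_inj hlt hm' (e1.symm.trans e)]
    exact hP j (hjs j) m hm
  exact ⟨g, ⟨hcent, π, hind⟩, hg, hind⟩

end Ind

/-! ### A bound for the centraliser -/

/-- The masks of the classes of squared length 64. -/
def frames : List ℕ :=
  (List.range (2 ^ S.bas.length)).filter fun m => decide (m ≠ 0) && normL (S.reps.getD m []) == 64

theorem mem_frames {m : ℕ} (hm : m < S.N) {v : leechLattice} (hn : sqNorm (v : GolayPt → ℤ) = 64)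
    (e : cls (v : GolayPt → ℤ) = S.cl m) : m ∈ S.frames := by
  obtain ⟨h0, h⟩ := norm_rep_of_frame S.hb S.hr hm hn e
  simp only [frames, List.mem_filter, List.mem_range, Bool.and_eq_true, decide_eq_true_eq,
    beq_iff_eq]
  exact ⟨hm, h0, h⟩

theorem rho_mem_mono : S.rho ∈ monoGroup := permHom_mem S.σ

theorem rho_fix_eight : cls ((S.rho • eightAt none : leechLattice) : GolayPt → ℤ) =
    cls (eightAt none : GolayPt → ℤ) := S.rho_mem_mono

theorem card_cent_le :
    Nat.card S.cent ≤ S.frames.length * Nat.card ↥(S.cent ⊓ monoGroup) := by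
  classical
  let M : Subgroup S.cent := monoGroup.subgroupOf S.cent
  have hM : Nat.card M = Nat.card ↥(S.cent ⊓ monoGroup) :=
    Nat.card_congr ((Equiv.subtypeSubtypeEquivSubtypeInter (fun g => g ∈ S.cent)
      (fun g => g ∈ monoGroup)).trans (Equiv.subtypeEquivRight fun g => Subgroup.mem_inf.symm))
  rw [Subgroup.card_eq_card_quotient_mul_card_subgroup M, hM]
  refine Nat.mul_le_mul_right _ ?_
  have key : ∀ g : S.cent, ∃ m ∈ S.frames,
      cls (((g : Co0) • eightAt none : leechLattice) : GolayPt → ℤ) = S.cl m := fun g => by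
    obtain ⟨m, hm, e⟩ := S.exists_image g.2 S.rho_fix_eight
    exact ⟨m, S.mem_frames hm (by rw [sqNorm_smul, sqNorm_eightAt]) e, e⟩
  choose f hf he using key
  let F : S.cent ⧸ M → S.frames.toFinset :=
    fun x => ⟨f x.out, List.mem_toFinset.2 (hf _)⟩
  have hF : Function.Injective F := by
    intro x y h
    have h' : f x.out = f y.out := congrArg Subtype.val h
    rw [← QuotientGroup.out_eq' x, ← QuotientGroup.out_eq' y, QuotientGroup.eq]
    show ((x.out : Co0))⁻¹ * (y.out : Co0) ∈ monoGroup
    show cls _ = cls _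
    rw [mul_smul]
    have e1 : cls (((y.out : Co0) • eightAt none : leechLattice) : GolayPt → ℤ) =
        cls (((x.out : Co0) • eightAt none : leechLattice) : GolayPt → ℤ) := by
      rw [he, he, h']
    have e2 := cls_smul (x.out : Co0)⁻¹ e1
    rwa [inv_smul_smul] at e2
  refine (Nat.card_le_card_of_injective F hF).trans ?_
  rw [Nat.card_eq_finsetCard]
  exact List.toFinset_card_le _

/-- The number of words of the code fixed by a position list. -/
def fixWords (L : List ℕ) : ℕ :=
  ((List.range 4096).filter fun c => permMask L (word c) 24 == word c).length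

theorem card_cent_mono_le : Nat.card ↥(S.cent ⊓ monoGroup) ≤
    Nat.card (Subgroup.centralizer ({S.σ} : Set M24)) * fixWords S.L := by
  classical
  let W := {w : golayCode // (fun i => (w : GolayPt → ZMod 2) ((S.σ : Equiv.Perm GolayPt)⁻¹ i)) = w}
  have hW : Nat.card W ≤ fixWords S.L := by
    let F := ((List.range 4096).filter fun c => permMask S.L (word c) 24 == word c).toFinset
    have key : ∀ w : W, ∃ c ∈ F, vec (word c) = (w.1 : GolayPt → ZMod 2) := fun w => by
      obtain ⟨c, hc, e⟩ := (mem_code_iff _).1 w.1.2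
      refine ⟨c, ?_, e.symm⟩
      simp only [F, List.mem_toFinset, List.mem_filter, List.mem_range, beq_iff_eq]
      refine ⟨hc, vec_inj ?_ (word_lt c hc) ?_⟩
      · rw [← S.hL]; exact permMask_lt _ _
      · rw [← S.hL, vec_permMask]
        show (fun q => vec (word c) _) = vec (word c)
        rw [← e]
        exact w.2
    choose f hf he using key
    calc Nat.card W ≤ Nat.card F :=
          Nat.card_le_card_of_injective (fun w => (⟨f w, hf w⟩ : F)) fun a b h => by
            have h' : f a = f b := congrArg Subtype.val h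
            refine Subtype.ext (Subtype.ext ?_)
            rw [← he a, ← he b, h']
      _ ≤ fixWords S.L := by rw [Nat.card_eq_finsetCard]; exact List.toFinset_card_le _
  refine le_trans ?_ (Nat.mul_le_mul_left _ hW)
  rw [← Nat.card_prod]
  have key : ∀ g : ↥(S.cent ⊓ monoGroup), ∃ x : Subgroup.centralizer ({S.σ} : Set M24) × W,
      monoAut (x.2.1, (x.1 : M24)) = (g : Co0) := by
    rintro ⟨g, hg⟩
    obtain ⟨hgc, hgm⟩ := Subgroup.mem_inf.1 hg
    obtain ⟨⟨w, π⟩, rfl⟩ := (mem_monoGroup_iff g).1 hgm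
    have e := S.mem_cent.1 hgc
    rw [rho, permHom_eq_monoAut, monoAut_mul, monoAut_mul] at e
    have e' := monoAut_injective e
    rw [Prod.ext_iff] at e'
    refine ⟨(⟨π, Subgroup.mem_centralizer_singleton_iff.2 e'.2⟩, ⟨w, ?_⟩), rfl⟩
    have e1 := congrArg Subtype.val e'.1
    simpa [Pi.add_def] using e1.symm
  choose f hf using key
  exact Nat.card_le_card_of_injective f fun a b h => Subtype.ext (by rw [← hf a, ← hf b, h])

end Sys

end CfsgLib.LeechFix
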